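import Cfsg.Agent.Lib.Basics.CoprimeAction
import Cfsg.Agent.Lib.Components.Signalizer
import Cfsg.Agent.Lib.Basics.Frattini

/-!
# Class sizes of fixed points under coprime elementary abelian action

If `B` (elementary abelian of order `≥ q ^ 2`) acts coprimely on `K`, centralises `x ∈ K`, and the
derived subgroups of all `C_K(b)` have order `≤ m`, then the class of `x` in `K` has bounded size.
-/

set_option autoImplicit false

open scoped commutatorElement
open Subgroup

namespace Cfsg.Agent.DerivedFixed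

variable {Γ : Type*} [Group Γ] [Finite Γ]

theorem le_normalizer_inf {B X Y : Subgroup Γ} (hX : B ≤ normalizer (X : Set Γ))
    (hY : B ≤ normalizer (Y : Set Γ)) : B ≤ normalizer ((X ⊓ Y : Subgroup Γ) : Set Γ) := fun b hb =>
  mem_normalizer_iff.mpr fun y =>
    and_congr (mem_normalizer_iff.mp (hX hb) y) (mem_normalizer_iff.mp (hY hb) y)

theorem le_normalizer_centralizer_singleton {B : Subgroup Γ} {x : Γ}
    (hx : x ∈ centralizer (B : Set Γ)) :
    B ≤ normalizer ((centralizer ({x} : Set Γ) : Subgroup Γ) : Set Γ) := fun b hb =>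
  le_normalizer (mem_centralizer_singleton_iff.mpr (mem_centralizer_iff.mp hx b hb))

theorem commutator_le_self' {X : Subgroup Γ} : ⁅X, X⁆ ≤ X :=
  le_normalizer_iff_commutator_le_left.mp le_normalizer

theorem le_normalizer_of_commutator_le {X H : Subgroup Γ} (hH : H ≤ X) (h : ⁅X, X⁆ ≤ H) :
    X ≤ normalizer (H : Set Γ) :=
  le_normalizer_iff_commutator_le_left.mpr ((commutator_mono hH le_rfl).trans h)

theorem card_le_prod_fixed_mul (q : ℕ) [Fact q.Prime] {B : Subgroup Γ}
    (hB : Cfsg.IsElementaryAbelian q B) (hB2 : q ^ 2 ≤ Nat.card B)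
    (s : Finset Γ) (hs : ∀ b ∈ B, b ≠ 1 → b ∈ s) {p : ℕ} [Fact p.Prime] :
    ∀ d : ℕ, ∀ P R : Subgroup Γ, Nat.card P - Nat.card R = d → IsPGroup p P → R ≤ P →
      ¬ q ∣ Nat.card P → B ≤ normalizer (P : Set Γ) → B ≤ normalizer (R : Set Γ) →
      Nat.card P * ∏ b ∈ s, Nat.card (R ⊓ centralizer {b} : Subgroup Γ) ≤
        Nat.card R * ∏ b ∈ s, Nat.card (P ⊓ centralizer {b} : Subgroup Γ) := by
  intro d
  induction d using Nat.strong_induction_on with
  | _ d ih =>
  intro P R hd hP hRP hq hBP hBR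
  classical
  rcases eq_or_ne R P with rfl | hne
  · exact le_rfl
  have hlt : Nat.card R < Nat.card P :=
    lt_of_le_of_ne (card_le_of_le hRP) fun h => hne (eq_of_le_of_card_ge hRP h.ge)
  -- an intermediate step
  have key : ∀ S : Subgroup Γ, R < S → S < P → B ≤ normalizer (S : Set Γ) →
      Nat.card P * ∏ b ∈ s, Nat.card (R ⊓ centralizer {b} : Subgroup Γ) ≤
        Nat.card R * ∏ b ∈ s, Nat.card (P ⊓ centralizer {b} : Subgroup Γ) := by
    intro S h1 h2 hBS
    have c1 : Nat.card R < Nat.card S :=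
      lt_of_le_of_ne (card_le_of_le h1.le) fun h => h1.ne (eq_of_le_of_card_ge h1.le h.ge)
    have c2 : Nat.card S < Nat.card P :=
      lt_of_le_of_ne (card_le_of_le h2.le) fun h => h2.ne (eq_of_le_of_card_ge h2.le h.ge)
    have i1 := ih _ (by omega) P S rfl hP h2.le hq hBP hBS
    have i2 := ih _ (by omega) S R rfl (hP.to_le h2.le) h1.le
      (fun h => hq (h.trans (card_dvd_of_le h2.le))) hBS hBR
    have hpos : 0 < Nat.card S * ∏ b ∈ s, Nat.card (S ⊓ centralizer {b} : Subgroup Γ) :=
      Nat.mul_pos Nat.card_pos (Finset.prod_pos fun b _ => Nat.card_pos)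
    refine Nat.le_of_mul_le_mul_left ?_ hpos
    calc _ = (Nat.card P * ∏ b ∈ s, Nat.card (S ⊓ centralizer {b} : Subgroup Γ)) *
          (Nat.card S * ∏ b ∈ s, Nat.card (R ⊓ centralizer {b} : Subgroup Γ)) := by ring
      _ ≤ _ := Nat.mul_le_mul i1 i2
      _ = _ := by ring
  by_cases hnorm : P ≤ normalizer (R : Set Γ)
  swap
  · refine key (P ⊓ normalizer (R : Set Γ)) ?_
      (lt_of_le_of_ne inf_le_left fun h => hnorm (inf_eq_left.mp h)) ?_
    · refine lt_of_le_of_ne (le_inf hRP le_normalizer) fun h => hne ?_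
      have hnil : Group.IsNilpotent P := hP.isNilpotent
      have hnc := Group.normalizerCondition_of_isNilpotent (G := P)
      have e : normalizer ((R.subgroupOf P : Subgroup P) : Set P) = R.subgroupOf P := by
        rw [← subgroupOf_normalizer_eq hRP, ← inf_subgroupOf_right, inf_comm]
        exact congrArg (fun Y : Subgroup Γ => Y.subgroupOf P) h.symm
      have := (normalizerCondition_iff_only_full_group_self_normalizing.mp hnc) _ e
      exact le_antisymm hRP (subgroupOf_eq_top.mp this)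
    · refine le_normalizer_inf hBP ?_
      intro b hb
      have h1 := Basics.conj_smul_eq_self_iff.mpr (hBR hb)
      refine mem_normalizer_iff.mpr fun y => ?_
      constructor <;> intro hy <;> rw [mem_normalizer_iff] at hy ⊢ <;> intro r
      · have hbi := mem_normalizer_iff.mp (hBR hb)
        rw [show b * y * b⁻¹ * r * (b * y * b⁻¹)⁻¹ = b * (y * (b⁻¹ * r * b) * y⁻¹) * b⁻¹ by group,
          ← hbi, ← hy, hbi (b⁻¹ * r * b), show b * (b⁻¹ * r * b) * b⁻¹ = r by group]
      · have hbi := mem_normalizer_iff.mp (hBR hb)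
        rw [hbi r, hy (b * r * b⁻¹), hbi (y * r * y⁻¹)]
        rw [show b * y * b⁻¹ * (b * r * b⁻¹) * (b * y * b⁻¹)⁻¹ = b * (y * r * y⁻¹) * b⁻¹ by group]
  by_cases hcomm : ⁅P, P⁆ ≤ R
  swap
  · refine key (R ⊔ ⁅P, P⁆) (lt_of_le_of_ne le_sup_left fun h => hcomm (h.symm ▸ le_sup_right))
      (lt_of_le_of_ne (sup_le hRP commutator_le_self') fun h => hne ?_) ?_
    · have hRn : (R.subgroupOf P).Normal := normal_subgroupOf_of_le_normalizer hnorm
      have hnil : Group.IsNilpotent P := hP.isNilpotent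
      have : R.subgroupOf P ⊔ _root_.commutator P = ⊤ := by
        apply map_injective P.subtype_injective
        rw [Subgroup.map_sup, map_subgroupOf_eq_of_le hRP, map_subtype_commutator, h,
          ← MonoidHom.range_eq_map, range_subtype]
      have hcl : _root_.commutator P ≤ frattini P := Basics.commutator_le_frattini
      have htop : R.subgroupOf P = ⊤ := frattini_nongenerating
        (eq_top_iff.mpr (this ▸ sup_le_sup_left hcl _))
      exact le_antisymm hRP (subgroupOf_eq_top.mp htop)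
    · intro b hb
      rw [← Basics.conj_smul_eq_self_iff, Subgroup.smul_sup,
        Basics.conj_smul_eq_self_iff.mpr (hBR hb)]
      congr 1
      change Subgroup.map (MulEquiv.toMonoidHom (MulAut.conj b)) ⁅P, P⁆ = _
      rw [map_commutator]
      have := Basics.conj_smul_eq_self_iff.mpr (hBP hb)
      exact congrArg₂ (⁅·, ·⁆) this this
  -- abelian factor: generated by fixed points
  have hgen : P ≤ R ⊔ s.sup (fun b => P ⊓ centralizer {b}) := by
    refine le_trans (Components.le_iSup_centralizer_index_le hB hq hBP) (iSup_le ?_)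
    rintro ⟨C, hCB, hCi⟩
    refine le_trans ?_ le_sup_right
    obtain ⟨b, hbC, hb1⟩ : ∃ b ∈ C, b ≠ 1 := by
      by_contra hc
      push Not at hc
      have hCbot : C = ⊥ := C.eq_bot_iff_forall.mpr hc
      rw [hCbot, relIndex_bot_left] at hCi
      have hq1 := (Fact.out : q.Prime).one_lt
      nlinarith [hB2.trans hCi]
    refine le_trans (inf_le_inf_left P (centralizer_le ?_))
      (Finset.le_sup (f := fun b => P ⊓ centralizer {b}) (hs b (hCB hbC) hb1))
    simpa using hbC
  have step : ∀ t : Finset Γ,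
      Nat.card (R ⊔ t.sup (fun b => P ⊓ centralizer {b}) : Subgroup Γ) *
          ∏ b ∈ t, Nat.card (R ⊓ centralizer {b} : Subgroup Γ) ≤
        Nat.card R * ∏ b ∈ t, Nat.card (P ⊓ centralizer {b} : Subgroup Γ) := by
    intro t
    induction t using Finset.induction_on with
    | empty => simp
    | insert b t hb it =>
      rw [Finset.prod_insert hb, Finset.prod_insert hb, Finset.sup_insert]
      set H := R ⊔ t.sup (fun b => P ⊓ centralizer {b}) with hH
      set C := P ⊓ centralizer ({b} : Set Γ) with hC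
      have hHP : H ≤ P := sup_le hRP (Finset.sup_le fun c _ => inf_le_left)
      have hHn : C ≤ normalizer (H : Set Γ) :=
        inf_le_left.trans (le_normalizer_of_commutator_le hHP (hcomm.trans le_sup_left))
      have e := Basics.card_mul_card_eq_card_sup_mul_card_inf hHn
      rw [show R ⊔ (C ⊔ t.sup (fun b => P ⊓ centralizer {b})) = H ⊔ C by
        rw [hH, sup_assoc, sup_comm C]]
      have hinf : Nat.card (R ⊓ centralizer {b} : Subgroup Γ) ≤ Nat.card (H ⊓ C : Subgroup Γ) :=
        card_le_of_le (le_inf (inf_le_left.trans le_sup_left) (inf_le_inf_right _ hRP))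
      calc Nat.card (H ⊔ C : Subgroup Γ) * (Nat.card (R ⊓ centralizer {b} : Subgroup Γ) *
            ∏ b ∈ t, Nat.card (R ⊓ centralizer {b} : Subgroup Γ))
          ≤ Nat.card (H ⊔ C : Subgroup Γ) * (Nat.card (H ⊓ C : Subgroup Γ) *
            ∏ b ∈ t, Nat.card (R ⊓ centralizer {b} : Subgroup Γ)) :=
            Nat.mul_le_mul_left _ (Nat.mul_le_mul_right _ hinf)
        _ = (Nat.card H * ∏ b ∈ t, Nat.card (R ⊓ centralizer {b} : Subgroup Γ)) * Nat.card C := by
            rw [← mul_assoc, ← e]; ring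
        _ ≤ (Nat.card R * ∏ b ∈ t, Nat.card (P ⊓ centralizer {b} : Subgroup Γ)) * Nat.card C :=
            Nat.mul_le_mul_right _ it
        _ = _ := by ring
  refine le_trans (Nat.mul_le_mul_right _ (card_le_of_le hgen)) (step s)

theorem card_le_mul_stabilizer {C : Subgroup Γ} {x : Γ} {m : ℕ} (hm : Nat.card (⁅C, C⁆ : Subgroup Γ) ≤ m)
    (hx : x ∈ C) (P : Subgroup Γ) (hP : P ≤ C) :
    Nat.card P ≤ m * Nat.card (P ⊓ centralizer {x} : Subgroup Γ) := by
  classical
  haveI := Fintype.ofFinite Γ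
  let sP : Finset Γ := Finset.univ.filter (· ∈ P)
  let sD : Finset Γ := Finset.univ.filter (· ∈ ⁅C, C⁆)
  have hsP : sP.card = Nat.card P := by rw [Nat.card_eq_fintype_card, ← Fintype.card_subtype]
  have hsD : sD.card = Nat.card (⁅C, C⁆ : Subgroup Γ) := by
    rw [Nat.card_eq_fintype_card, ← Fintype.card_subtype]
  rw [← hsP]
  refine le_trans (Finset.card_le_mul_card_image_of_maps_to (f := fun y : Γ => ⁅y, x⁆) (t := sD)
    (fun y hy => Finset.mem_filter.mpr ⟨Finset.mem_univ _,
      commutator_mem_commutator (hP (Finset.mem_filter.mp hy).2) hx⟩)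
    (Nat.card (P ⊓ centralizer {x} : Subgroup Γ)) fun z _ => ?_) ?_
  · rcases (sP.filter fun y => ⁅y, x⁆ = z).eq_empty_or_nonempty with h | ⟨y0, hy0⟩
    · rw [h]; exact Nat.zero_le _
    simp only [Finset.mem_filter, sP, Finset.mem_univ, true_and] at hy0
    rw [Nat.card_eq_fintype_card, Fintype.card_subtype]
    refine Finset.card_le_card_of_injOn (fun y => y0⁻¹ * y) ?_
      (fun a _ b _ hab => mul_left_cancel hab)
    intro y hy
    simp only [Finset.mem_coe, Finset.mem_filter, sP, Finset.mem_univ, true_and] at hy ⊢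
    refine ⟨P.mul_mem (P.inv_mem hy0.1) hy.1, mem_centralizer_singleton_iff.mpr ?_⟩
    have h := hy.2.trans hy0.2.symm
    simp only [commutatorElement_def] at h
    have h' : y * x * y⁻¹ = y0 * x * y0⁻¹ := mul_right_cancel h
    calc y0⁻¹ * y * x = y0⁻¹ * (y * x * y⁻¹) * y := by group
      _ = y0⁻¹ * (y0 * x * y0⁻¹) * y := by rw [h']
      _ = x * (y0⁻¹ * y) := by group
  · rw [mul_comm]; exact Nat.mul_le_mul_right _ (hsD ▸ hm)

/-- The class bound. -/
theorem card_le_of_fixed (q : ℕ) [Fact q.Prime] {B K : Subgroup Γ}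
    (hB : Cfsg.IsElementaryAbelian q B) (hB2 : q ^ 2 ≤ Nat.card B)
    (hBK : B ≤ normalizer (K : Set Γ)) (hqK : ¬ q ∣ Nat.card K) (m N : ℕ) (hN : Nat.card B ≤ N)
    (hm1 : 1 ≤ m)
    (hm : ∀ b ∈ B, b ≠ 1 →
      Nat.card (⁅K ⊓ centralizer {b}, K ⊓ centralizer {b}⁆ : Subgroup Γ) ≤ m)
    {x : Γ} (hxK : x ∈ K) (hxB : x ∈ centralizer (B : Set Γ)) :
    Nat.card K ≤ (m ^ N) ^ (m ^ N + 1) * Nat.card (K ⊓ centralizer {x} : Subgroup Γ) := by
  classical
  haveI := Fintype.ofFinite Γ
  set M := m ^ N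
  set Cx := K ⊓ centralizer ({x} : Set Γ) with hCx
  have hdvd : Nat.card Cx ∣ Nat.card K := card_dvd_of_le inf_le_left
  obtain ⟨d, hd⟩ := hdvd
  have hd0 : d ≠ 0 := by rintro rfl; rw [mul_zero] at hd; exact (Nat.card_pos).ne' hd
  have hBcop : ∀ X : Subgroup Γ, X ≤ K → (Nat.card B).Coprime (Nat.card X) := fun X hX => by
    have hBp : IsPGroup q B := fun g => ⟨1, Subtype.ext (by simpa using hB.2 g g.2)⟩
    obtain ⟨e, he⟩ := hBp.exists_card_eq
    rw [he]
    exact Nat.Coprime.pow_left _ ((Fact.out : q.Prime).coprime_iff_not_dvd.mpr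
      fun h => hqK (h.trans (card_dvd_of_le hX)))
  have hsolv : ∀ X : Subgroup Γ, Group.IsSolvable B ∨ Group.IsSolvable X := fun _ => Or.inl (by
    exact isSolvable_of_comm fun a b => hB.1.is_comm.comm a b)
  have hpe : ∀ p, p.Prime → p ^ d.factorization p ≤ M := by
    intro p hp
    haveI := Fact.mk hp
    have hBCx : B ≤ normalizer (Cx : Set Γ) :=
      le_normalizer_inf hBK (le_normalizer_centralizer_singleton hxB)
    obtain ⟨R, hR, hBR⟩ := Basics.exists_invariant_isSylowIn B Cx hBCx (hBcop _ inf_le_left)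
      (hsolv _) p
    obtain ⟨P, hP, hRP, hBP⟩ := Basics.exists_invariant_isSylowIn_ge B K hBK (hBcop K le_rfl)
      (hsolv _) p R (hR.1.trans inf_le_left) hR.isPGroup hBR
    set s := Finset.univ.filter (fun b : Γ => b ∈ B ∧ b ≠ 1) with hs
    have hscard : s.card ≤ N := by
      refine le_trans ?_ hN
      rw [Nat.card_eq_fintype_card, Fintype.card_subtype]
      exact Finset.card_le_card fun b hb => by
        rw [hs, Finset.mem_filter] at hb
        exact Finset.mem_filter.mpr ⟨hb.1, hb.2.1⟩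
    have h1 := card_le_prod_fixed_mul q hB hB2 s
      (fun b hb hb1 => Finset.mem_filter.mpr ⟨Finset.mem_univ _, hb, hb1⟩) (p := p) _ P R rfl
      hP.isPGroup hRP (fun h => hqK (h.trans (card_dvd_of_le hP.1))) hBP hBR
    -- `R` is the whole of `P ⊓ C(x)`
    have hReq : R = P ⊓ centralizer {x} := by
      refine eq_of_le_of_card_ge (le_inf hRP (hR.1.trans inf_le_right)) ?_
      obtain ⟨e, he⟩ := (hP.isPGroup.to_le (inf_le_left :
        P ⊓ centralizer {x} ≤ P)).exists_card_eq
      rw [hR.2, he]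
      refine Nat.pow_le_pow_right hp.pos ?_
      rw [← hp.pow_dvd_iff_le_factorization (Nat.card_pos).ne', ← he]
      exact card_dvd_of_le (inf_le_inf_right _ hP.1)
    have h2 : ∏ b ∈ s, Nat.card (P ⊓ centralizer {b} : Subgroup Γ) ≤
        m ^ s.card * ∏ b ∈ s, Nat.card (R ⊓ centralizer {b} : Subgroup Γ) := by
      rw [← Finset.prod_const, ← Finset.prod_mul_distrib]
      refine Finset.prod_le_prod' fun b hb => ?_
      rw [hs, Finset.mem_filter] at hb
      have hxb : x ∈ K ⊓ centralizer ({b} : Set Γ) :=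
        ⟨hxK, mem_centralizer_singleton_iff.mpr (mem_centralizer_iff.mp hxB b hb.2.1).symm⟩
      refine le_trans (card_le_mul_stabilizer (hm b hb.2.1 hb.2.2) hxb _
        (inf_le_inf_right _ hP.1)) (Nat.mul_le_mul_left _ (card_le_of_le ?_))
      rw [hReq, inf_assoc, inf_assoc, inf_comm (centralizer ({b} : Set Γ))]
    have h3 : Nat.card P ≤ Nat.card R * m ^ s.card := by
      refine Nat.le_of_mul_le_mul_right (le_trans h1 ?_)
        (Finset.prod_pos fun b (_ : b ∈ s) =>
          (Nat.card_pos (α := (R ⊓ centralizer {b} : Subgroup Γ))))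
      rw [mul_assoc]
      exact Nat.mul_le_mul_left _ h2
    rw [hP.2, hR.2, hd, Nat.factorization_mul (Nat.card_pos).ne' hd0, Finsupp.add_apply,
      pow_add] at h3
    exact (Nat.le_of_mul_le_mul_left h3 (Nat.pow_pos hp.pos)).trans
      (Nat.pow_le_pow_right hm1 hscard)
  have hprimes : d.primeFactors.card ≤ M + 1 := by
    refine le_trans (Finset.card_le_card (t := Finset.range (M + 1)) fun p hp => ?_)
      (Finset.card_range _).le
    refine Finset.mem_range.mpr (Nat.lt_succ_of_le (le_trans ?_ (hpe p (Nat.prime_of_mem_primeFactors hp))))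
    exact Nat.le_self_pow ((Nat.prime_of_mem_primeFactors hp).factorization_pos_of_dvd hd0
      (Nat.dvd_of_mem_primeFactors hp)).ne' _
  have hdle : d ≤ M ^ (M + 1) := by
    conv_lhs => rw [← Nat.prod_factorization_pow_eq_self hd0]
    rw [Finsupp.prod, Nat.support_factorization]
    refine le_trans (Finset.prod_le_pow_card _ _ M fun p hp =>
      hpe p (Nat.prime_of_mem_primeFactors hp)) ?_
    exact Nat.pow_le_pow_right (Nat.pos_of_ne_zero (by
      simp only [M]; exact pow_ne_zero _ (by omega))) hprimes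
  rw [hd, mul_comm]
  exact Nat.mul_le_mul_right _ hdle

end Cfsg.Agent.DerivedFixed
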