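import Cfsg.Agent.Lib.Basics.CoprimeAction
import Mathlib.GroupTheory.Schreier
import Mathlib.Data.Finite.Perm

/-!
# Bounding the derived subgroup by a conjugation invariant set of commutators
-/

set_option autoImplicit false

open scoped commutatorElement Pointwise
open Subgroup

namespace Cfsg.Agent.DerivedFixed

/-- The bound of `card_commutator_le_of_invariant_set`. -/
def derivedBound (t m : ℕ) : ℕ :=
  m ^ t * (Finset.range (t.factorial * t.factorial + 1)).sup cardCommutatorBound

theorem derivedBound_mono {t t' m : ℕ} (ht : t ≤ t') (hm : 1 ≤ m) :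
    derivedBound t m ≤ derivedBound t' m := by
  refine Nat.mul_le_mul (Nat.pow_le_pow_right hm ht) (Finset.sup_mono ?_)
  intro i hi
  have := Nat.factorial_le ht
  have := Nat.mul_le_mul this this
  simp only [Finset.mem_range] at hi ⊢
  omega

theorem card_closure_le_pow_of_comm {H : Type*} [CommGroup H] [Finite H] {m : ℕ} (hm : 1 ≤ m)
    (S : Finset H) (hS : ∀ a ∈ S, orderOf a ≤ m) :
    Nat.card (closure (S : Set H)) ≤ m ^ S.card := by
  classical
  induction S using Finset.induction_on with
  | empty => simp
  | insert a S ha ih =>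
    rw [Finset.coe_insert, Set.insert_eq, Subgroup.closure_union, Finset.card_insert_of_notMem ha, pow_succ']
    have e := Basics.card_mul_card_eq_card_sup_mul_card_inf
      (N := closure (S : Set H)) (H := closure {a}) le_normalizer_of_normal
    rw [sup_comm]
    have h1 : Nat.card (closure ({a} : Set H)) ≤ m := by
      rw [← zpowers_eq_closure, Nat.card_zpowers]
      exact hS a (Finset.mem_insert_self a S)
    have h2 := ih fun b hb => hS b (Finset.mem_insert_of_mem hb)
    calc _ ≤ _ := Nat.le_mul_of_pos_right _ Nat.card_pos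
      _ = _ := e.symm
      _ ≤ m ^ S.card * m := Nat.mul_le_mul h2 h1
      _ = _ := mul_comm _ _

variable {G : Type*} [Group G] [Finite G]

theorem card_commutator_le_of_invariant_set {X T : Set G} {t m : ℕ} (hX : closure X = ⊤)
    (hT : ∀ g : G, ∀ s ∈ T, g * s * g⁻¹ ∈ T) (hXT : ∀ x ∈ X, ∀ y ∈ X, ⁅x, y⁆ ∈ T)
    (ht : T.ncard ≤ t) (hord : ∀ s ∈ T, orderOf s ≤ m) (hm : 1 ≤ m) :
    Nat.card (_root_.commutator G) ≤ derivedBound t m := by
  classical
  haveI := Fintype.ofFinite G
  set H := closure T with hH
  have hHn : H.Normal := by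
    rw [← normalizer_eq_top_iff, eq_top_iff]
    intro g _
    refine mem_normalizer_iff.mpr fun y => ?_
    have h1 : ∀ g : G, ∀ y ∈ H, g * y * g⁻¹ ∈ H := by
      intro g y hy
      induction hy using closure_induction with
      | mem z hz => exact subset_closure (hT g z hz)
      | one => simp
      | mul a b _ _ ha hb =>
        rw [show g * (a * b) * g⁻¹ = (g * a * g⁻¹) * (g * b * g⁻¹) by group]; exact mul_mem ha hb
      | inv a _ ha =>
        rw [show g * a⁻¹ * g⁻¹ = (g * a * g⁻¹)⁻¹ by group]; exact inv_mem ha
    refine ⟨h1 g y, fun h => ?_⟩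
    have := h1 g⁻¹ _ h
    rwa [show g⁻¹ * (g * y * g⁻¹) * g⁻¹⁻¹ = y by group] at this
  -- `G / H` is abelian
  have hGH : _root_.commutator G ≤ H := by
    haveI := hHn
    set π := QuotientGroup.mk' H
    have hgen : closure (π '' X) = ⊤ := by
      rw [← MonoidHom.map_closure, hX]
      exact map_top_of_surjective _ (QuotientGroup.mk'_surjective H)
    have hc : IsMulCommutative (closure (π '' X)) := by
      refine isMulCommutative_closure ?_
      rintro _ ⟨x, hx, rfl⟩ _ ⟨y, hy, rfl⟩
      refine commutatorElement_eq_one_iff_mul_comm.mp ?_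
      rw [← map_commutatorElement]
      exact (QuotientGroup.eq_one_iff _).mpr (subset_closure (hXT x hx y hy))
    rw [_root_.commutator_def, commutator_le]
    intro a _ b _
    rw [← QuotientGroup.eq_one_iff]
    show π ⁅a, b⁆ = 1
    rw [map_commutatorElement, commutatorElement_eq_one_iff_mul_comm]
    have := hc.is_comm.comm ⟨π a, hgen ▸ mem_top _⟩ ⟨π b, hgen ▸ mem_top _⟩
    exact congrArg Subtype.val this
  -- the centre of `H` has index at most `t!`
  letI : MulAction H T :=
    { smul := fun h s => ⟨(h : G) * s * (h : G)⁻¹, hT h s s.2⟩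
      one_smul := fun s => Subtype.ext (show ((1 : H) : G) * s * ((1 : H) : G)⁻¹ = s by simp)
      mul_smul := fun a b s => Subtype.ext
        (show ((a * b : H) : G) * s * ((a * b : H) : G)⁻¹ =
          (a : G) * ((b : G) * s * (b : G)⁻¹) * (a : G)⁻¹ by
            rw [Subgroup.coe_mul]; group) }
  set φ := MulAction.toPermHom H T with hφ
  have hker : φ.ker ≤ center H := by
    intro h hh
    rw [mem_center_iff]
    intro g
    have hc : (g : G) ∈ centralizer ({(h : G)} : Set G) := by
      refine (closure_le _).mpr ?_ g.2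
      intro s hs
      refine mem_centralizer_singleton_iff.mpr ?_
      have h1 : (h : G) * s * (h : G)⁻¹ = s :=
        congrArg Subtype.val (DFunLike.congr_fun (MonoidHom.mem_ker.mp hh) (⟨s, hs⟩ : T))
      calc s * (h : G) = (h : G) * s * (h : G)⁻¹ * h := by rw [h1]
        _ = (h : G) * s := by group
    exact Subtype.ext (mem_centralizer_singleton_iff.mp hc)
  have hidx : (center H).index ≤ t.factorial := by
    refine le_trans (Nat.le_of_dvd (Nat.pos_of_ne_zero index_ne_zero_of_finite)
      (index_dvd_of_le hker)) ?_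
    rw [index_ker]
    refine le_trans (card_le_card_group φ.range) ?_
    rw [Nat.card_perm, Nat.card_coe_set_eq]
    exact Nat.factorial_le ht
  -- so `H` has boundedly many commutators
  have hcs : Nat.card (commutatorSet H) ≤ t.factorial * t.factorial := by
    let f : (H ⧸ center H) × (H ⧸ center H) → H := fun p => ⁅p.1.out, p.2.out⁆
    have hsub : commutatorSet H ⊆ Set.range f := by
      rintro _ ⟨a, b, rfl⟩
      refine ⟨(a, b), ?_⟩
      obtain ⟨z, hz⟩ := QuotientGroup.mk_out_eq_mul (center H) a
      obtain ⟨w, hw⟩ := QuotientGroup.mk_out_eq_mul (center H) b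
      show ⁅(a : H ⧸ center H).out, (b : H ⧸ center H).out⁆ = ⁅a, b⁆
      rw [hz, hw, commutatorElement_def, commutatorElement_def]
      have hz' := mem_center_iff.mp z.2
      have hw' := mem_center_iff.mp w.2
      calc a * (z : H) * (b * w) * (a * z)⁻¹ * (b * w)⁻¹
          = a * ((z : H) * (b * w)) * (z : H)⁻¹ * a⁻¹ * (w : H)⁻¹ * b⁻¹ := by group
        _ = a * ((b * w) * z) * (z : H)⁻¹ * a⁻¹ * (w : H)⁻¹ * b⁻¹ := by rw [hz']
        _ = a * b * ((w : H) * a⁻¹) * (w : H)⁻¹ * b⁻¹ := by group
        _ = a * b * (a⁻¹ * w) * (w : H)⁻¹ * b⁻¹ := by rw [hw']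
        _ = a * b * a⁻¹ * b⁻¹ := by group
    rw [Nat.card_coe_set_eq]
    refine le_trans (Set.ncard_le_ncard hsub) ?_
    refine le_trans (Finite.card_range_le f) ?_
    rw [Nat.card_prod]
    exact Nat.mul_le_mul hidx hidx
  have hH' : Nat.card (_root_.commutator H) ≤
      (Finset.range (t.factorial * t.factorial + 1)).sup cardCommutatorBound :=
    (card_commutator_le_of_finite_commutatorSet H).trans
      (Finset.le_sup (Finset.mem_range.mpr (Nat.lt_succ_of_le hcs)))
  have hab : Nat.card (Abelianization H) ≤ m ^ t := by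
    let S : Finset (Abelianization H) :=
      (Finset.univ.filter fun h : H => (h : G) ∈ T).image Abelianization.of
    have hS : closure (S : Set (Abelianization H)) = ⊤ := by
      rw [Finset.coe_image, Finset.coe_filter, ← MonoidHom.map_closure]
      simp only [Finset.mem_univ, true_and]
      rw [show {h : H | (h : G) ∈ T} = Subtype.val ⁻¹' T from rfl,
        closure_closure_coe_preimage (k := T)]
      exact map_top_of_surjective _ (QuotientGroup.mk'_surjective _)
    have hcard : S.card ≤ t := by
      refine le_trans Finset.card_image_le (le_trans ?_ ht)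
      rw [Set.ncard_eq_toFinset_card']
      exact Finset.card_le_card_of_injOn (fun h : H => (h : G))
        (fun h hh => by simpa using hh) (fun a _ b _ e => Subtype.ext e)
    haveI : Finite (Abelianization H) :=
      inferInstanceAs (Finite (H ⧸ _root_.commutator H))
    rw [← card_top, ← hS]
    refine (card_closure_le_pow_of_comm hm S fun a ha => ?_).trans (Nat.pow_le_pow_right hm hcard)
    obtain ⟨h, hh, rfl⟩ := Finset.mem_image.mp ha
    refine le_trans (Nat.le_of_dvd (orderOf_pos h) (orderOf_map_dvd _ h)) ?_
    rw [← Subgroup.orderOf_coe]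
    exact hord _ (Finset.mem_filter.mp hh).2
  calc Nat.card (_root_.commutator G) ≤ Nat.card H := card_le_of_le hGH
    _ = Nat.card (Abelianization H) * Nat.card (_root_.commutator H) :=
      card_eq_card_quotient_mul_card_subgroup _
    _ ≤ _ := Nat.mul_le_mul hab hH'

end Cfsg.Agent.DerivedFixed
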